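import Groth.Agent.VanGrowth.Bound
import Groth.Agent.CurveEmbed.Equiv
import Groth.Agent.AmpleX.SemiAmple

/-!
# Kodaira's lemma: maximal growth of sections and effective differences from ample modules
-/

set_option linter.style.haveILetI false
set_option backward.isDefEq.respectTransparency false
set_option backward.isDefEq.respectTransparency.types false

universe u

open CategoryTheory CategoryTheory.Limits AlgebraicGeometry TopologicalSpace Opposite

attribute [local instance] HasDerivedCategory.standard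

noncomputable section

namespace Groth.Agent.VanGrowth

open Groth.Agent
open Groth.Agent.H23.PicMul

variable {X : Scheme.{u}}

/-- Tensor powers of a monomorphism of invertible modules are monomorphisms. -/
theorem exists_mono_pow {A B : X.Modules} (hA : PicF.IsInvertible A) (hB : PicF.IsInvertible B)
    (φ : A ⟶ B) [Mono φ] : ∀ μ : ℕ, ∃ ψ : CohB1.tensorPow A μ ⟶ CohB1.tensorPow B μ, Mono ψ
  | 0 => ⟨𝟙 _, inferInstance⟩
  | μ + 1 => by
    obtain ⟨ψ, hψ⟩ := exists_mono_pow hA hB φ μ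
    haveI := hψ
    haveI := AmpleVan.isEquivalence_tw hA
    haveI := AmpleVan.isEquivalence_tw (InvX.isInvertible_tensorPow hB μ)
    haveI : Mono ((AmpleVan.tw A).map ψ) := Functor.map_mono _ _
    haveI : Mono ((AmpleVan.tw (CohB1.tensorPow B μ)).map φ) := Functor.map_mono _ _
    obtain ⟨c₁⟩ := comm (CohB1.tensorPow B μ) A
    obtain ⟨c₂⟩ := comm B (CohB1.tensorPow B μ)
    refine ⟨(AmpleVan.tw A).map ψ ≫ c₁.hom ≫ (AmpleVan.tw (CohB1.tensorPow B μ)).map φ ≫ c₂.hom, ?_⟩
    exact mono_comp _ _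

/-- A polynomial with positive coefficient in degree `n` and none above grows like `x^n`. -/
theorem exists_poly_lower {n : ℕ} (P : Polynomial ℚ) (hP : P.natDegree ≤ n) (hc : 0 < P.coeff n) :
    ∃ K : ℕ, 1 ≤ K ∧ ∀ x : ℕ, K ≤ x → P.coeff n / 2 * (x : ℚ) ^ n ≤ P.eval (x : ℚ) := by
  set S := ∑ j ∈ Finset.range n, |P.coeff j|
  refine ⟨⌈2 * S / P.coeff n⌉₊ + 1, Nat.le_add_left _ _, fun x hx => ?_⟩
  have hx1 : (1 : ℚ) ≤ x := by exact_mod_cast (Nat.le_add_left 1 _).trans hx
  have hSx : 2 * S / P.coeff n ≤ (x : ℚ) :=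
    (Nat.le_ceil _).trans (by exact_mod_cast (Nat.le_add_right _ 1).trans hx)
  rw [div_le_iff₀ hc] at hSx
  rw [P.eval_eq_sum_range' (Nat.lt_succ_of_le hP), Finset.sum_range_succ]
  rcases Nat.eq_zero_or_pos n with rfl | hn
  · simp; linarith
  obtain ⟨k, rfl⟩ := Nat.exists_eq_add_of_le' hn
  have hlow : -(S * (x : ℚ) ^ k) ≤ ∑ j ∈ Finset.range (k + 1), P.coeff j * (x : ℚ) ^ j := by
    rw [Finset.sum_mul, ← Finset.sum_neg_distrib]
    refine Finset.sum_le_sum fun j hj => ?_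
    have h1 : (x : ℚ) ^ j ≤ (x : ℚ) ^ k := pow_le_pow_right₀ hx1 (Nat.lt_succ_iff.1 (Finset.mem_range.1 hj))
    have h2 : |P.coeff j| * (x : ℚ) ^ j ≤ |P.coeff j| * (x : ℚ) ^ k :=
      mul_le_mul_of_nonneg_left h1 (abs_nonneg _)
    have h3 : -(|P.coeff j| * (x : ℚ) ^ j) ≤ P.coeff j * (x : ℚ) ^ j := by
      rw [← neg_mul]
      exact mul_le_mul_of_nonneg_right (neg_abs_le _) (by positivity)
    linarith
  have h4 : 2 * S * (x : ℚ) ^ k ≤ (x : ℚ) * P.coeff (k + 1) * (x : ℚ) ^ k :=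
    mul_le_mul_of_nonneg_right hSx (by positivity)
  rw [pow_succ]
  linarith

theorem support_structureModule (X : Scheme.{u}) :
    CohB1.support (Coh.structureModule X) = Set.univ :=
  Set.eq_univ_of_forall fun x => by
    obtain ⟨U, hU, hxU⟩ := QCoh.exists_affine_mem x
    refine (QCoh.mem_support_iff QCoh.isQCoh_structureModule hU hxU).2 ⟨(1 : Γ(X, U)), fun a ha h0 => ?_⟩
    change a * 1 = 0 at h0
    rw [mul_one] at h0
    subst h0
    rw [Scheme.basicOpen_zero] at ha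
    exact ha

theorem dim_univ (X : Scheme.{u}) :
    topologicalKrullDim ↥(Set.univ : Set X) = topologicalKrullDim X :=
  IsHomeomorph.topologicalKrullDim_eq _ (Homeomorph.Set.univ X).isHomeomorph

variable (k : Type u) [Field k] [X.Over (Spec (CommRingCat.of k))] [IsProper (X ↘ Spec (CommRingCat.of k))]

/-- An ample module has maximal growth along some multiple. -/
theorem exists_growth_of_ample {A : X.Modules} (hA : CohB1.IsAmple A) {n : ℕ}
    (hn : topologicalKrullDim X = n) :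
    ∃ K a : ℕ, 0 < K ∧ 0 < a ∧ ∀ μ : ℕ, 1 ≤ μ → μ ^ n ≤ a * h0 k (CohB1.tensorPow A (K * μ)) := by
  haveI := CurveCohLib.isNoetherian_of_proper (k := k) (X := X)
  have hO : Coh.IsCoh (Coh.structureModule X) := QCoh.isCoh_structureModule'
  have hd : topologicalKrullDim ↥(CohB1.support (Coh.structureModule X)) = (n : WithBot ℕ∞) := by
    rw [support_structureModule, dim_univ, hn]
  obtain ⟨P, m₀, hdeg, hα, hP⟩ := exists_h0_poly k hA hO hd.le
  have hpos := (HilbPoly.mult_nonneg_and_pos k hA n _ hO hd.le).2 hd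
  have hc : 0 < P.coeff n := by
    have h : (0 : ℚ) < StabCat.alpha n P := by rw [hα]; exact_mod_cast hpos
    exact pos_of_mul_pos_right h (Nat.cast_nonneg _)
  obtain ⟨K₀, hK₀, hlow⟩ := exists_poly_lower P hdeg hc
  refine ⟨K₀ + m₀, ⌈2 / P.coeff n⌉₊, by omega, Nat.ceil_pos.2 (by positivity), fun μ hμ => ?_⟩
  have hle : K₀ + m₀ ≤ (K₀ + m₀) * μ := Nat.le_mul_of_pos_right _ hμ
  obtain ⟨e⟩ := cl_eq_iff.1 (show
      PicF.cl (HilbPoly.pw A (Coh.structureModule X) ((K₀ + m₀) * μ)) =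
        PicF.cl (CohB1.tensorPow A ((K₀ + m₀) * μ)) by
    rw [cl_tensor, ← one_def, one_mul])
  have h1 : P.coeff n / 2 * (((K₀ + m₀) * μ : ℕ) : ℚ) ^ n ≤ (h0 k (CohB1.tensorPow A ((K₀ + m₀) * μ)) : ℚ) := by
    refine (hlow _ (by omega)).trans_eq ?_
    rw [← hP _ (by omega)]
    exact_mod_cast HilbPoly.finrank_HH_iso k e 0
  have h2 : (μ : ℚ) ^ n ≤ (((K₀ + m₀) * μ : ℕ) : ℚ) ^ n := by
    exact_mod_cast Nat.pow_le_pow_left (Nat.le_mul_of_pos_left μ (by omega)) n
  have h3 : (μ : ℚ) ^ n ≤ 2 / P.coeff n * (h0 k (CohB1.tensorPow A ((K₀ + m₀) * μ)) : ℚ) := by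
    rw [div_mul_eq_mul_div, le_div_iff₀ hc]
    have := mul_le_mul_of_nonneg_left h2 hc.le
    nlinarith
  rw [← Nat.cast_le (α := ℚ)]
  push_cast
  exact h3.trans (mul_le_mul_of_nonneg_right (Nat.le_ceil _) (Nat.cast_nonneg _))

/-- A monomorphism from an ample module into a power gives maximal growth. -/
theorem exists_growth_of_mono {L A : X.Modules} (hL : PicF.IsInvertible L) (hA : CohB1.IsAmple A) {n : ℕ}
    (hn : topologicalKrullDim X = n) {ν : ℕ} (hν : 0 < ν) (φ : A ⟶ CohB1.tensorPow L ν) [Mono φ] :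
    ∃ ν' a : ℕ, 0 < ν' ∧ 0 < a ∧ ∀ μ : ℕ, 1 ≤ μ →
      μ ^ n ≤ a * h0 k (CohB1.tensorPow L (ν' * μ)) := by
  haveI := CurveCohLib.isNoetherian_of_proper (k := k) (X := X)
  obtain ⟨K, a, hK, ha, h⟩ := exists_growth_of_ample k hA hn
  refine ⟨ν * K, a, by positivity, ha, fun μ hμ => (h μ hμ).trans (Nat.mul_le_mul_left _ ?_)⟩
  have hLν := InvX.isInvertible_tensorPow hL ν
  obtain ⟨ψ, hψ⟩ := exists_mono_pow hA.1 hLν φ (K * μ)
  obtain ⟨e⟩ := cl_eq_iff.1 (show
      PicF.cl (CohB1.tensorPow (CohB1.tensorPow L ν) (K * μ)) = PicF.cl (CohB1.tensorPow L (ν * K * μ)) by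
    rw [cl_tensorPow, cl_tensorPow, cl_tensorPow, ← pow_mul, mul_assoc])
  haveI := hψ
  exact h0_le_of_mono k (AmpleVan.isCoh_invertible (InvX.isInvertible_tensorPow hA.1 _))
    (AmpleVan.isCoh_invertible (InvX.isInvertible_tensorPow hL _)) (ψ ≫ e.hom)

/-- A nonzero section of `D ⊗ B`, with `D` inverse to `A`, gives a monomorphism `A ⟶ B`. -/
theorem exists_mono_of_h0_pos [IsIntegral X] {A B D : X.Modules} (hA : PicF.IsInvertible A)
    (hB : PicF.IsInvertible B) (hD : PicF.IsInvertible D) (hAD : PicF.cl A * PicF.cl D = 1)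
    (h : 0 < h0 k (CohB1.tensorMod D B)) : ∃ φ : A ⟶ B, Mono φ := by
  haveI := CurveCohLib.isNoetherian_of_proper (k := k) (X := X)
  have hDB := InvX.isInvertible_tensorMod hD hB
  haveI : Nontrivial (Coh.HH X (CohB1.tensorMod D B) 0) := Module.nontrivial_of_finrank_pos h
  obtain ⟨x, hx⟩ := exists_ne (0 : Coh.HH X (CohB1.tensorMod D B) 0)
  let σ : Γ(CohB1.tensorMod D B, ⊤) := Sheaf.H.equiv₀ (Coh.toAb (CohB1.tensorMod D B)) isTerminalTop x
  have hσ : σ ≠ 0 := fun h0 => hx ((Sheaf.H.equiv₀ (Coh.toAb (CohB1.tensorMod D B)) isTerminalTop).injective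
    (h0.trans (map_zero _).symm))
  have hne : InvX.ofSect σ ≠ 0 := fun h0 => hσ (by
    have h1 := congrArg InvX.one h0
    rw [InvX.one_ofSect] at h1
    exact h1)
  haveI := InvEnd.mono_of_ne_zero CurveDeg.isInvertible_structureModule hDB (InvX.ofSect σ) hne
  haveI := AmpleVan.isEquivalence_tw hA
  haveI : Mono ((AmpleVan.tw A).map (InvX.ofSect σ)) := Functor.map_mono _ _
  obtain ⟨e₁⟩ := cl_eq_iff.1 (show PicF.cl A = PicF.cl ((AmpleVan.tw A).obj (Coh.structureModule X)) by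
    show PicF.cl A = PicF.cl (CohB1.tensorMod (Coh.structureModule X) A)
    rw [cl_tensor, ← one_def, one_mul])
  obtain ⟨e₂⟩ := cl_eq_iff.1 (show PicF.cl ((AmpleVan.tw A).obj (CohB1.tensorMod D B)) = PicF.cl B by
    show PicF.cl (CohB1.tensorMod (CohB1.tensorMod D B) A) = _
    rw [cl_tensor, cl_tensor, mul_right_comm, mul_comm (PicF.cl D), hAD, one_mul])
  exact ⟨e₁.hom ≫ (AmpleVan.tw A).map (InvX.ofSect σ) ≫ e₂.hom, inferInstance⟩

omit [X.Over (Spec (CommRingCat.of k))] [IsProper (X ↘ Spec (CommRingCat.of k))] in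
/-- A section generating somewhere is nonzero. -/
theorem ne_zero_of_mem_genLocus {A : X.Modules} (hA : PicF.IsInvertible A) {s : Coh.structureModule X ⟶ A}
    {x : X} (hx : x ∈ CohB1.genLocus A s) : s ≠ 0 := by
  rintro rfl
  obtain ⟨W, hxW, e, he⟩ := InvX.exists_frame hA x
  have h := (InvX.genLocus_inf (0 : Coh.structureModule X ⟶ A) he (g := 0) (by
    rw [zero_smul, show InvX.one (0 : Coh.structureModule X ⟶ A) = 0 from rfl]
    exact map_zero _)).le ⟨hx, hxW⟩
  rw [Scheme.basicOpen_zero] at h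
  exact h

/-- An effective ample module with a cokernel supported away from the generic point. -/
theorem exists_ample_effective [IsIntegral X] {H : X.Modules} (hH : CohB1.IsAmple H) :
    ∃ (A : X.Modules) (s : Coh.structureModule X ⟶ A), CohB1.IsAmple A ∧ Mono s ∧
      genericPoint X ∉ CohB1.support (cokernel s) := by
  obtain ⟨a, ha, s, hs, -⟩ := (AmpleX.isAmple_iff.1 hH).2.2 (genericPoint X)
  have hA : CohB1.IsAmple (CohB1.tensorPow H a) := AmpleX.isAmple_tensorPow hH ha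
  haveI := InvEnd.mono_of_ne_zero CurveDeg.isInvertible_structureModule hA.1 s
    (ne_zero_of_mem_genLocus hA.1 hs)
  refine ⟨_, s, hA, inferInstance, ?_⟩
  obtain ⟨U, hU, hηU⟩ : ∃ U : X.Opens,
      IsIso ((Scheme.Modules.restrictFunctor U.ι).map s) ∧ genericPoint X ∈ U := Opens.mem_sSup.1 hs
  haveI : IsIso ((Scheme.Modules.restrictFunctor U.ι).map s) := hU
  exact HilbPoly.notMem_support_of_isZero_restrict (HilbPoly.isZero_restrict_cokernel U s) hηU

/-- Twists of a module supported away from the generic point have slow growth. -/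
theorem exists_slow_bound [IsIntegral X] {H L F : X.Modules} (hH : CohB1.IsAmple H) (hL : PicF.IsInvertible L)
    (hF : Coh.IsCoh F) (hηF : genericPoint X ∉ CohB1.support F) {n : ℕ} (hn : topologicalKrullDim X = n) :
    ∃ C : ℕ, ∀ m, h0 k (HilbPoly.pw L F m) ≤ if n = 0 then 0 else C * (m + 1) ^ (n - 1) := by
  haveI := CurveCohLib.isNoetherian_of_proper (k := k) (X := X)
  have hcl : (Set.univ : Set X) = closure {genericPoint X} := (genericPoint_spec X).def.symm
  have hlt : topologicalKrullDim ↥(CohB1.support F) < (n : WithBot ℕ∞) :=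
    HilbPoly.dim_lt_closure (by rw [← hcl, dim_univ, hn]) (QCoh.isClosed_support_of_isFT hF.1 hF.2)
      (hcl ▸ Set.subset_univ _) hηF
  rcases Nat.eq_zero_or_pos n with rfl | hn0
  · refine ⟨0, fun m => ?_⟩
    have hz : IsZero F := CurveCohLib.isZero_of_subsingleton_stalks fun x => not_not.1 fun hx =>
      Set.eq_empty_iff_forall_notMem.1 (HilbPoly.support_eq_empty_of_dimLT_zero hlt) x hx
    haveI := AmpleVan.isEquivalence_tw (InvX.isInvertible_tensorPow hL m)
    rw [if_pos rfl]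
    exact (CurveCohLib.finrank_HH_zero_eq_zero_of_isZero
      ((AmpleVan.tw (CohB1.tensorPow L m)).map_isZero hz)).le
  · obtain ⟨d, rfl⟩ := Nat.exists_eq_add_of_le' hn0
    obtain ⟨C, hC⟩ := hasBound_of_dim_le k hH hL hF (HilbPoly.le_of_lt_succ hlt)
    exact ⟨C, fun m => by rw [if_neg (Nat.succ_ne_zero d), Nat.add_sub_cancel]; exact hC m⟩

/-- An effective ample module and the bound on sections of its cokernel. -/
theorem exists_ample_defect {H L : X.Modules} [IsIntegral X] (hH : CohB1.IsAmple H) (hL : PicF.IsInvertible L)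
    {n : ℕ} (hn : topologicalKrullDim X = n) :
    ∃ (A D : X.Modules), CohB1.IsAmple A ∧ PicF.IsInvertible D ∧ PicF.cl A * PicF.cl D = 1 ∧
      ∃ C : ℕ, ∀ m, h0 k (CohB1.tensorPow L m) ≤
        h0 k (CohB1.tensorMod D (CohB1.tensorPow L m)) + (if n = 0 then 0 else C * (m + 1) ^ (n - 1)) := by
  haveI := CurveCohLib.isNoetherian_of_proper (k := k) (X := X)
  obtain ⟨A, s, hA, hsm, hη⟩ := exists_ample_effective hH
  haveI := hsm
  obtain ⟨D, hD, hu⟩ := H23.PicInv.exists_inverse hA.1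
  have hAD : PicF.cl A * PicF.cl D = 1 := by
    rw [← cl_tensor, one_def]; exact cl_eq_iff.2 hu
  have hC : Coh.IsCoh (cokernel s) :=
    QCoh.isCoh_cokernel QCoh.isCoh_structureModule'.1 (AmpleVan.isCoh_invertible hA.1) s
  have hF : Coh.IsCoh (CohB1.tensorMod (cokernel s) D) :=
    AmpleVan.isCoh_tensor hC (AmpleVan.isCoh_invertible hD)
  obtain ⟨C, hb⟩ := exists_slow_bound k hH hL hF
    (fun h => hη (HilbPoly.support_tensor_subset _ _ h)) hn
  refine ⟨A, D, hA, hD, hAD, C, fun m => ?_⟩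
  haveI := AmpleVan.isEquivalence_tw hD
  haveI := AmpleVan.isEquivalence_tw (InvX.isInvertible_tensorPow hL m)
  haveI : (AmpleVan.tw D).Additive := Functor.additive_of_preserves_binary_products _
  haveI : (AmpleVan.tw (CohB1.tensorPow L m)).Additive := Functor.additive_of_preserves_binary_products _
  have hS : (ShortComplex.mk s (cokernel.π s) (cokernel.condition s)).ShortExact :=
    .mk' (ShortComplex.exact_of_g_is_cokernel _ (cokernelIsCokernel s)) inferInstance inferInstance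
  have hS' := (hS.map_of_exact (AmpleVan.tw D)).map_of_exact (AmpleVan.tw (CohB1.tensorPow L m))
  have h2 := (h0_le_add k hS'
    (HilbPoly.isCoh_pw hL (AmpleVan.isCoh_tensor QCoh.isCoh_structureModule' (AmpleVan.isCoh_invertible hD)) m)
    (HilbPoly.isCoh_pw hL (AmpleVan.isCoh_tensor (AmpleVan.isCoh_invertible hA.1) (AmpleVan.isCoh_invertible hD)) m)
    (HilbPoly.isCoh_pw hL hF m)).2
  have e₁ : h0 k (HilbPoly.pw L (CohB1.tensorMod (Coh.structureModule X) D) m) =
      h0 k (CohB1.tensorMod D (CohB1.tensorPow L m)) := by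
    obtain ⟨e⟩ := cl_eq_iff.1 (show
        PicF.cl (HilbPoly.pw L (CohB1.tensorMod (Coh.structureModule X) D) m) =
          PicF.cl (CohB1.tensorMod D (CohB1.tensorPow L m)) by
      simp only [cl_tensor, ← one_def, one_mul])
    exact HilbPoly.finrank_HH_iso k e 0
  have e₂ : h0 k (HilbPoly.pw L (CohB1.tensorMod A D) m) = h0 k (CohB1.tensorPow L m) := by
    obtain ⟨e⟩ := cl_eq_iff.1 (show
        PicF.cl (HilbPoly.pw L (CohB1.tensorMod A D) m) = PicF.cl (CohB1.tensorPow L m) by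
      simp only [cl_tensor, hAD, one_mul])
    exact HilbPoly.finrank_HH_iso k e 0
  calc h0 k (CohB1.tensorPow L m) = h0 k (HilbPoly.pw L (CohB1.tensorMod A D) m) := e₂.symm
    _ ≤ h0 k (HilbPoly.pw L (CohB1.tensorMod (Coh.structureModule X) D) m) +
        h0 k (HilbPoly.pw L (CohB1.tensorMod (cokernel s) D) m) := h2
    _ ≤ _ := by rw [e₁]; exact Nat.add_le_add_left (hb m) _

/-- Maximal growth gives a monomorphism from an ample module into some power. -/
theorem exists_mono_of_growth [IsIntegral X] {H L : X.Modules} (hH : CohB1.IsAmple H) (hL : PicF.IsInvertible L)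
    {n : ℕ} (hn : topologicalKrullDim X = n) {ν a : ℕ} (hν : 0 < ν)
    (hg : ∀ μ : ℕ, 1 ≤ μ → μ ^ n ≤ a * h0 k (CohB1.tensorPow L (ν * μ))) :
    ∃ (ν : ℕ) (A : X.Modules) (φ : A ⟶ CohB1.tensorPow L ν), 0 < ν ∧ CohB1.IsAmple A ∧ Mono φ := by
  obtain ⟨A, D, hA, hD, hAD, C, hC⟩ := exists_ample_defect k hH hL hn
  set μ := a * C * (2 * ν) ^ (n - 1) + 1 with hμ
  have hpos : 0 < h0 k (CohB1.tensorMod D (CohB1.tensorPow L (ν * μ))) := by
    refine Nat.pos_of_ne_zero fun h0' => ?_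
    have h1 := (hg μ (by omega)).trans (Nat.mul_le_mul_left a (hC (ν * μ)))
    rw [h0', zero_add] at h1
    rcases Nat.eq_zero_or_pos n with rfl | hn0
    · simp at h1
    obtain ⟨d, rfl⟩ := Nat.exists_eq_add_of_le' hn0
    rw [if_neg (Nat.succ_ne_zero d), Nat.add_sub_cancel] at h1
    rw [Nat.add_sub_cancel] at hμ
    have h2 : (ν * μ + 1) ^ d ≤ (2 * ν) ^ d * μ ^ d := by
      rw [← mul_pow]
      refine Nat.pow_le_pow_left ?_ d
      have : 1 ≤ ν * μ := Nat.one_le_iff_ne_zero.2 (Nat.mul_ne_zero (by omega) (by omega))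
      nlinarith
    have h3 : μ * μ ^ d ≤ (a * C * (2 * ν) ^ d) * μ ^ d := by
      rw [← pow_succ']
      calc μ ^ (d + 1) ≤ a * (C * (ν * μ + 1) ^ d) := h1
        _ ≤ a * (C * ((2 * ν) ^ d * μ ^ d)) := Nat.mul_le_mul_left _ (Nat.mul_le_mul_left _ h2)
        _ = _ := by ring
    have := Nat.le_of_mul_le_mul_right h3 (pow_pos (by omega) d)
    omega
  obtain ⟨φ, hφ⟩ := exists_mono_of_h0_pos k hA.1 (InvX.isInvertible_tensorPow hL _) hD hAD hpos
  exact ⟨_, A, φ, Nat.mul_pos hν (by omega), hA, hφ⟩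

end Groth.Agent.VanGrowth
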