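import Groth.Agent.HilbPoly.Pos
import Groth.Agent.AmpleVan.Uniform
import Groth.Agent.Lib.Euler
import Groth.Agent.Lib.InvEnd

/-!
# Polynomial bounds on the dimension of spaces of sections of twists

`dim H^0(X, F ⊗ L^m) ≤ C (m+1)^d` for `F` coherent with support of dimension at most `d` and `L` any
invertible module on a projective scheme over a field.
-/

set_option linter.style.haveILetI false
set_option backward.isDefEq.respectTransparency false
set_option backward.isDefEq.respectTransparency.types false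

universe u

open CategoryTheory CategoryTheory.Limits AlgebraicGeometry TopologicalSpace Opposite

attribute [local instance] HasDerivedCategory.standard

noncomputable section

namespace Groth.Agent.VanGrowth

open Groth.Agent
open Groth.Agent.H23.PicMul
open Groth.Agent.PnCoh.Finite (mapLin)

variable (k : Type u) [Field k] {X : Scheme.{u}} [X.Over (Spec (CommRingCat.of k))]

/-- `dim H^0`. -/
abbrev h0 (F : X.Modules) : ℕ := Module.finrank k (Coh.HH X F 0)

variable [IsProper (X ↘ Spec (CommRingCat.of k))]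

theorem h0_le_add {S : ShortComplex X.Modules} (hS : S.ShortExact) (h₁ : Coh.IsCoh S.X₁)
    (h₂ : Coh.IsCoh S.X₂) (h₃ : Coh.IsCoh S.X₃) :
    h0 k S.X₁ ≤ h0 k S.X₂ ∧ h0 k S.X₂ ≤ h0 k S.X₁ + h0 k S.X₃ := by
  haveI := CurveCohLib.finite_HH (k := k) h₁ 0
  haveI := CurveCohLib.finite_HH (k := k) h₂ 0
  haveI := CurveCohLib.finite_HH (k := k) h₃ 0
  have e1 := (mapLin k S.f 0).finrank_range_add_finrank_ker
  have e2 := (mapLin k S.g 0).finrank_range_add_finrank_ker
  have e3 : Module.finrank k (LinearMap.ker (mapLin k S.g 0)) ≤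
      Module.finrank k (Coh.HH X S.X₂ 0) := Submodule.finrank_le _
  have e4 : Module.finrank k (LinearMap.range (mapLin k S.g 0)) ≤
      Module.finrank k (Coh.HH X S.X₃ 0) := Submodule.finrank_le _
  rw [Euler.range_mapLin_f k hS 0, Euler.ker_mapLin_f_zero k hS, finrank_bot] at e1
  simp only [h0]
  exact ⟨by omega, by omega⟩

theorem h0_le_of_mono {A B : X.Modules} (hA : Coh.IsCoh A) (hB : Coh.IsCoh B) (φ : A ⟶ B) [Mono φ] :
    h0 k A ≤ h0 k B := by
  haveI := CurveCohLib.isNoetherian_of_proper (k := k) (X := X)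
  exact (h0_le_add k (S := ShortComplex.mk φ (cokernel.π φ) (cokernel.condition φ))
    (.mk' (ShortComplex.exact_of_g_is_cokernel _ (cokernelIsCokernel φ)) ‹_› inferInstance)
    hA hB (QCoh.isCoh_cokernel hA.1 hB φ)).1

/-- An eventually polynomial sequence is bounded by a multiple of the power of the degree. -/
theorem exists_poly_bound {d : ℕ} (f : ℕ → ℕ) (P : Polynomial ℚ) (hP : P.natDegree ≤ d) (m₀ : ℕ)
    (h : ∀ m, m₀ ≤ m → (f m : ℚ) = P.eval (m : ℚ)) : ∃ C : ℕ, ∀ m, f m ≤ C * (m + 1) ^ d := by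
  refine ⟨⌈∑ j ∈ Finset.range (d + 1), |P.coeff j|⌉₊ + ∑ m ∈ Finset.range m₀, f m, fun m => ?_⟩
  have hp : 1 ≤ (m + 1) ^ d := Nat.one_le_pow _ _ (Nat.succ_pos m)
  rcases lt_or_ge m m₀ with hm | hm
  · refine (Finset.single_le_sum (fun i _ => Nat.zero_le (f i)) (Finset.mem_range.2 hm)).trans ?_
    exact (Nat.le_add_left _ _).trans (Nat.le_mul_of_pos_right _ hp)
  · refine le_trans ?_ (Nat.mul_le_mul_right _ (Nat.le_add_right _ _))
    rw [← Nat.cast_le (α := ℚ), h m hm, P.eval_eq_sum_range' (Nat.lt_succ_of_le hP)]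
    push_cast
    refine le_trans ?_ (mul_le_mul_of_nonneg_right (Nat.le_ceil _) (by positivity))
    rw [Finset.sum_mul]
    refine Finset.sum_le_sum fun j hj => ?_
    refine mul_le_mul (le_abs_self _) ?_ (by positivity) (abs_nonneg _)
    exact (pow_le_pow_left₀ (by positivity) (le_add_of_nonneg_right zero_le_one) _).trans
      (pow_le_pow_right₀ (le_add_of_nonneg_left (by positivity)) (Nat.lt_succ_iff.1 (Finset.mem_range.1 hj)))

/-- For large `m` the sections of `F ⊗ A^m` are counted by a polynomial. -/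
theorem exists_h0_poly {A : X.Modules} (hA : CohB1.IsAmple A) {F : X.Modules} (hF : Coh.IsCoh F) {d : ℕ}
    (hd : topologicalKrullDim ↥(CohB1.support F) ≤ (d : WithBot ℕ∞)) :
    ∃ (P : Polynomial ℚ) (m₀ : ℕ), P.natDegree ≤ d ∧
      StabCat.alpha d P = HilbPoly.mult k A d F ∧
      ∀ m, m₀ ≤ m → (h0 k (HilbPoly.pw A F m) : ℚ) = P.eval (m : ℚ) := by
  haveI := CurveCohLib.isNoetherian_of_proper (k := k) (X := X)
  obtain ⟨P, hP, hdeg, hα⟩ := HilbPoly.exists_poly (HilbPoly.additive_euler k) hA.1 hF hd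
  obtain ⟨m₀, hm₀⟩ := AmpleVan.exists_vanishing (A := k) hA hF
  refine ⟨P, m₀, hdeg, hα, fun m hm => ?_⟩
  rw [← hP m, CurveCohLib.euler_eq_sum (k := k) (N := 1) fun i hi => by
    obtain ⟨q, rfl⟩ := Nat.exists_eq_add_of_le' hi
    exact hm₀ m hm q]
  simp [h0]

/-- `F ⊗ L^m` has at most `C (m+1)^d` independent sections. -/
def HasBound (L : X.Modules) (d : ℕ) (F : X.Modules) : Prop :=
  ∃ C : ℕ, ∀ m, h0 k (HilbPoly.pw L F m) ≤ C * (m + 1) ^ d

/-- The multiplication by a section which generates at the generic point is injective. -/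
theorem mono_mulHom_push {Z : Scheme.{u}} (i : Z ⟶ X) [IsClosedImmersion i] [IsIntegral Z]
    {N : X.Modules} (s : Coh.structureModule X ⟶ N)
    (hs : i (genericPoint Z) ∈ CohB1.genLocus N s) :
    Mono (HilbPoly.mulHom s ((Coh.push i).obj (Coh.structureModule Z))) := by
  set M := (Coh.push i).obj (Coh.structureModule Z)
  obtain ⟨U, hU, hξU⟩ : ∃ U : X.Opens,
      IsIso ((Scheme.Modules.restrictFunctor U.ι).map s) ∧ i (genericPoint Z) ∈ U :=
    Opens.mem_sSup.1 hs
  haveI : IsIso ((Scheme.Modules.restrictFunctor U.ι).map s) := hU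
  haveI := HilbPoly.isIso_restrict_mulHom s M (U := U)
  haveI : Mono (HilbPoly.resUnit U M) := HilbPoly.mono_resUnit_push i hξU
  haveI : Mono (HilbPoly.mulHom s M ≫ HilbPoly.resUnit U (CohB1.tensorMod M N)) := by
    have hn : HilbPoly.mulHom s M ≫ HilbPoly.resUnit U (CohB1.tensorMod M N) = HilbPoly.resUnit U M ≫
        (Scheme.Modules.pushforward U.ι).map ((Scheme.Modules.restrictFunctor U.ι).map (HilbPoly.mulHom s M)) :=
      (Scheme.Modules.restrictAdjunction U.ι).unit.naturality (HilbPoly.mulHom s M)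
    rw [hn]
    exact mono_comp _ _
  exact mono_of_mono _ (HilbPoly.resUnit U (CohB1.tensorMod M N))

include k in
/-- Any invertible module becomes ample after a twist having a section generating at a given point. -/
theorem exists_ample_twist {H L : X.Modules} (hH : CohB1.IsAmple H) (hL : PicF.IsInvertible L) (x : X) :
    ∃ (N : X.Modules) (t : Coh.structureModule X ⟶ N), PicF.IsInvertible N ∧ CohB1.IsAmple N ∧
      x ∈ CohB1.genLocus N t ∧ CohB1.IsAmple (CohB1.tensorMod N L) := by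
  haveI := CurveCohLib.isNoetherian_of_proper (k := k) (X := X)
  haveI := AmpleVan.isSeparated_of_proper (X := X) (A := k)
  obtain ⟨a, ha, s, hs, -⟩ := (AmpleX.isAmple_iff.1 hH).2.2 x
  obtain ⟨n₀, -, hn₀⟩ := AmpleX.eventually_ample_tensor hH hL
  obtain ⟨t, ht⟩ := AmpleX.exists_section_of_cl_eq (B := CohB1.tensorPow H (a * (n₀ + 1)))
    (show PicF.cl (CohB1.tensorPow (CohB1.tensorPow H a) (n₀ + 1)) = PicF.cl (CohB1.tensorPow H (a * (n₀ + 1))) by
      rw [cl_tensorPow, cl_tensorPow, cl_tensorPow, ← pow_mul]) (InvX.powHom s (n₀ + 1))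
  refine ⟨_, t, InvX.isInvertible_tensorPow hH.1 _, AmpleX.isAmple_tensorPow hH (by positivity), ?_,
    (hn₀ _ ((Nat.le_succ _).trans (Nat.le_mul_of_pos_left _ ha))).1⟩
  rw [ht, InvX.genLocus_powHom (InvX.isInvertible_tensorPow hH.1 a)]
  exact hs

/-- The bound for the structure sheaf of an integral closed subscheme. -/
theorem hasBound_integral {H L : X.Modules} (hH : CohB1.IsAmple H) (hL : PicF.IsInvertible L) {d : ℕ}
    {Z : Scheme.{u}} (i : Z ⟶ X) [IsClosedImmersion i] [IsIntegral Z]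
    (hd : topologicalKrullDim ↥(Set.range i) ≤ (d : WithBot ℕ∞)) :
    HasBound k L d ((Coh.push i).obj (Coh.structureModule Z)) := by
  haveI := CurveCohLib.isNoetherian_of_proper (k := k) (X := X)
  have hM : Coh.IsCoh ((Coh.push i).obj (Coh.structureModule Z)) := QCoh.isCoh_push_structure i
  have hMd : topologicalKrullDim ↥(CohB1.support ((Coh.push i).obj (Coh.structureModule Z))) ≤ (d : WithBot ℕ∞) :=
    (H23.TopDim.dim_le_dim_of_subset (QCoh.support_push_subset i QCoh.isQCoh_structureModule)).trans hd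
  obtain ⟨N, t, hN, -, htξ, hA⟩ := exists_ample_twist k hH hL (i (genericPoint Z))
  obtain ⟨P, m₀, hdeg, -, hP⟩ := exists_h0_poly k hA hM hMd
  obtain ⟨C, hC⟩ := exists_poly_bound
    (fun m => h0 k (HilbPoly.pw (CohB1.tensorMod N L) ((Coh.push i).obj (Coh.structureModule Z)) m)) P hdeg m₀ hP
  refine ⟨C, fun m => le_trans ?_ (hC m)⟩
  have hξm : i (genericPoint Z) ∈ CohB1.genLocus _ (InvX.powHom t m) := by
    match m with
    | 0 =>
      refine (InvX.le_genLocus (U := ⊤) _ ?_) trivial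
      rw [AModX.res_self]
      exact InvX.isFrame_one ⊤
    | j + 1 => rw [InvX.genLocus_powHom hN]; exact htξ
  haveI := mono_mulHom_push i (InvX.powHom t m) hξm
  haveI := AmpleVan.isEquivalence_tw (InvX.isInvertible_tensorPow hL m)
  generalize hμ : HilbPoly.mulHom (InvX.powHom t m) ((Coh.push i).obj (Coh.structureModule Z)) = μ at *
  haveI : Mono ((AmpleVan.tw (CohB1.tensorPow L m)).map μ) := Functor.map_mono _ _
  obtain ⟨e⟩ := cl_eq_iff.1 (show
      PicF.cl ((AmpleVan.tw (CohB1.tensorPow L m)).obj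
        (CohB1.tensorMod ((Coh.push i).obj (Coh.structureModule Z)) (CohB1.tensorPow N m))) =
      PicF.cl (CohB1.tensorMod ((Coh.push i).obj (Coh.structureModule Z))
        (CohB1.tensorPow (CohB1.tensorMod N L) m)) by
    show PicF.cl (CohB1.tensorMod (CohB1.tensorMod _ _) _) = _
    simp only [cl_tensor, cl_tensorPow, mul_pow, mul_assoc])
  exact @h0_le_of_mono k _ X _ _
    ((AmpleVan.tw (CohB1.tensorPow L m)).obj ((Coh.push i).obj (Coh.structureModule Z))) _
    (HilbPoly.isCoh_pw hL hM m) (HilbPoly.isCoh_pw hA.1 hM m)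
    ((AmpleVan.tw (CohB1.tensorPow L m)).map μ ≫ e.hom) (mono_comp _ _)

theorem hasBound_of_dim_le {H L : X.Modules} (hH : CohB1.IsAmple H) (hL : PicF.IsInvertible L) {d : ℕ}
    {F : X.Modules} (hF : Coh.IsCoh F) (hd : topologicalKrullDim ↥(CohB1.support F) ≤ (d : WithBot ℕ∞)) :
    HasBound k L d F := by
  haveI := CurveCohLib.isNoetherian_of_proper (k := k) (X := X)
  have hcoh : ∀ {G : X.Modules}, Coh.IsCoh G → ∀ m, Coh.IsCoh (HilbPoly.pw L G m) :=
    fun h m => HilbPoly.isCoh_pw hL h m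
  have hmap : ∀ {S : ShortComplex X.Modules}, S.ShortExact → ∀ m,
      (S.map (AmpleVan.tw (CohB1.tensorPow L m))).ShortExact := fun hS m => by
    haveI := AmpleVan.isEquivalence_tw (InvX.isInvertible_tensorPow hL m)
    haveI : (AmpleVan.tw (CohB1.tensorPow L m)).Additive :=
      Functor.additive_of_preserves_binary_products _
    exact hS.map_of_exact _
  refine QCoh.devissage (HasBound k L d) ?_ ?_ (CohB1.support F) ?_ ?_ ?_ hF subset_rfl
  · rintro M N ⟨e⟩ ⟨C, hC⟩
    exact ⟨C, fun m => (HilbPoly.finrank_HH_iso k ((AmpleVan.tw (CohB1.tensorPow L m)).mapIso e) 0).symm.le.trans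
      (hC m)⟩
  · intro M hM
    refine ⟨0, fun m => ?_⟩
    haveI := AmpleVan.isEquivalence_tw (InvX.isInvertible_tensorPow hL m)
    exact le_of_eq_of_le (CurveCohLib.finrank_HH_zero_eq_zero_of_isZero
      ((AmpleVan.tw (CohB1.tensorPow L m)).map_isZero hM)) (Nat.zero_le _)
  · rintro S hS h₁ h₂ h₃ - ⟨C₁, hC₁⟩ ⟨C₃, hC₃⟩
    refine ⟨C₁ + C₃, fun m => ?_⟩
    have h := (h0_le_add k (hmap hS m) (hcoh h₁ m) (hcoh h₂ m) (hcoh h₃ m)).2
    exact (h.trans (add_le_add (hC₁ m) (hC₃ m))).trans_eq (add_mul _ _ _).symm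
  · intro ξ hξ _ Z i _ _ hr
    exact hasBound_integral k hH hL i ((H23.TopDim.dim_le_dim_of_subset (hr ▸ hξ)).trans hd)
  · rintro S hS h₁ h₂ h₃ - ⟨C, hC⟩ -
    exact ⟨C, fun m => (h0_le_add k (hmap hS m) (hcoh h₁ m) (hcoh h₂ m) (hcoh h₃ m)).1.trans (hC m)⟩

end Groth.Agent.VanGrowth
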